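import Cfsg.Agent.H163.Steinberg
import Cfsg.Agent.Characters.GaloisBasic

/-!
# The Steinberg character is rational-valued

* `trace_semilinear` : the trace of an operator commuting with a `σ`-semilinear bijection is fixed by `σ`;
* `exists_rat_of_hasSplit` : the Steinberg character of a group with a split (B,N)-pair is rational-valued.
-/

set_option autoImplicit false
set_option linter.unusedSectionVars false

namespace Cfsg.Agent.H707.GalTrace

open Cfsg Cfsg.Agent.Tits.Core Cfsg.Agent.Tits.Core.Bldg Cfsg.Agent.FixBN Representation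

section Semi

variable {V : Type*} [AddCommGroup V] [Module ℂ V]

/-- The image of a basis under a semilinear bijection. -/
noncomputable def semiBasis {ι : Type*} [Fintype ι] (σ : ℂ ≃+* ℂ) (S : V ≃+ V)
    (hS : ∀ (c : ℂ) (v : V), S (c • v) = σ c • S v) (b : Module.Basis ι ℂ V) : Module.Basis ι ℂ V :=
  Module.Basis.ofEquivFun
    { toFun := fun v i => σ (b.repr (S.symm v) i)
      invFun := fun f => S (∑ i, σ.symm (f i) • b i)
      map_add' := by
        intro v w
        funext i
        simp
      map_smul' := by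
        intro c v
        funext i
        have h1 : S.symm (c • v) = σ.symm c • S.symm v := by
          apply S.injective
          rw [hS]; simp
        rw [h1, map_smul, Finsupp.smul_apply, smul_eq_mul, map_mul]
        simp
      left_inv := by
        intro v
        simp [b.sum_repr]
      right_inv := by
        intro f
        funext i
        have h1 : b.repr (S.symm (S (∑ i, σ.symm (f i) • b i))) = ∑ i, σ.symm (f i) • Finsupp.single i 1 := by
          rw [AddEquiv.symm_apply_apply, map_sum]
          refine Finset.sum_congr rfl fun j _ => ?_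
          rw [map_smul, b.repr_self]
        change σ (b.repr (S.symm (S (∑ i, σ.symm (f i) • b i))) i) = f i
        rw [h1, Finsupp.finsetSum_apply, Finset.sum_eq_single i]
        · simp
        · intro j _ hj
          simp [Finsupp.single_eq_of_ne hj.symm]
        · intro h; exact absurd (Finset.mem_univ i) h }

theorem semiBasis_repr {ι : Type*} [Fintype ι] (σ : ℂ ≃+* ℂ) (S : V ≃+ V)
    (hS : ∀ (c : ℂ) (v : V), S (c • v) = σ c • S v) (b : Module.Basis ι ℂ V) (v : V) (i : ι) :
    (semiBasis σ S hS b).repr v i = σ (b.repr (S.symm v) i) := rfl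

theorem semiBasis_apply {ι : Type*} [Fintype ι] (σ : ℂ ≃+* ℂ) (S : V ≃+ V)
    (hS : ∀ (c : ℂ) (v : V), S (c • v) = σ c • S v) (b : Module.Basis ι ℂ V) (i : ι) :
    (semiBasis σ S hS b) i = S (b i) := by
  classical
  apply (semiBasis σ S hS b).repr.injective
  refine Finsupp.ext fun j => ?_
  rw [(semiBasis σ S hS b).repr_self, semiBasis_repr, AddEquiv.symm_apply_apply, b.repr_self,
    Finsupp.single_apply]
  split_ifs <;> simp

/-- The trace of an operator commuting with a `σ`-semilinear bijection is fixed by `σ`. -/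
theorem trace_semilinear [FiniteDimensional ℂ V] (σ : ℂ ≃+* ℂ) (S : V ≃+ V)
    (hS : ∀ (c : ℂ) (v : V), S (c • v) = σ c • S v) (T : V →ₗ[ℂ] V) (hT : ∀ v, T (S v) = S (T v)) :
    σ (LinearMap.trace ℂ V T) = LinearMap.trace ℂ V T := by
  classical
  let b := Module.finBasis ℂ V
  rw [LinearMap.trace_eq_matrix_trace ℂ b T]
  conv_rhs => rw [← LinearMap.trace_eq_matrix_trace ℂ b T, LinearMap.trace_eq_matrix_trace ℂ (semiBasis σ S hS b) T]
  rw [Matrix.trace, Matrix.trace, map_sum]
  refine Finset.sum_congr rfl fun i _ => ?_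
  rw [Matrix.diag_apply, Matrix.diag_apply, LinearMap.toMatrix_apply, LinearMap.toMatrix_apply, semiBasis_repr,
    semiBasis_apply, hT, AddEquiv.symm_apply_apply]

end Semi

section St

variable {I : Type*} {M : CoxeterMatrix I} {W : Type*} [Group W] {cs : CoxeterSystem M W} {C : Type*}
  [Fintype C] (Δ : Bldg cs C)

theorem map_mem_St (σ : ℂ →+* ℂ) {f : C → ℂ} (hf : f ∈ H163.Steinberg.St Δ) :
    (fun x => σ (f x)) ∈ H163.Steinberg.St Δ := by
  classical
  intro i x
  have h := hf i x
  unfold H163.Steinberg.psum at h ⊢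
  have h2 := congrArg σ h
  rw [map_sum, map_zero] at h2
  refine Eq.trans (Finset.sum_congr rfl fun y _ => ?_) h2
  split_ifs
  · rfl
  · rw [map_zero]

/-- The entrywise automorphism of the Steinberg space. -/
noncomputable def semi (σ : ℂ ≃+* ℂ) : H163.Steinberg.St Δ ≃+ H163.Steinberg.St Δ where
  toFun f := ⟨fun x => σ ((f : C → ℂ) x), map_mem_St Δ (σ : ℂ →+* ℂ) f.2⟩
  invFun f := ⟨fun x => σ.symm ((f : C → ℂ) x), map_mem_St Δ (σ.symm : ℂ →+* ℂ) f.2⟩
  left_inv f := by apply Subtype.ext; funext x; simp
  right_inv f := by apply Subtype.ext; funext x; simp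
  map_add' f g := by apply Subtype.ext; funext x; simp

variable {G : Type*} [Group G] [MulAction G C] [Finite G] [Finite W] {p : ℕ} (S : FixBN.Sys Δ G p)

theorem rat_character (g : G) : ∃ q : ℚ, (H163.Steinberg.rep (G := G) S.iso).character g = q := by
  have hch : IsCharacter G (H163.Steinberg.rep (G := G) S.iso).character :=
    Characters.Core.isCharacter_of_rep _
  apply Characters.GaloisBasic.exists_rat_of_forall_ringEquiv
  · exact (Characters.GaloisBasic.isIntegral_apply hch g).tower_top
  · intro σ
    exact trace_semilinear σ (semi Δ σ)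
      (by intro c v; apply Subtype.ext; funext x; exact map_mul σ _ _)
      (H163.Steinberg.rep (G := G) S.iso g) (fun v => rfl)

include S in
/-- **The Steinberg character** is rational-valued, building version. -/
theorem exists_rat_of_sys [Fact p.Prime] [Nonempty C] (ht : ∀ x y : C, ∃ g : G, g • x = y) :
    ∃ χ : G → ℂ, IsIrrCharacter G χ ∧ (∀ g : G, ∃ q : ℚ, χ g = q) ∧
      ∀ Q : Sylow p G, χ 1 = Nat.card Q ∧ ∀ x : G, x ∈ Q → x ≠ 1 → χ x = 0 := by
  have hopp : ∀ c : C, ∃ d, Δ.Opp c d := fun c => Tits.Opp.exists_opp Δ c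
  obtain ⟨c0⟩ := (inferInstance : Nonempty C)
  have hirr := H163.Steinberg.isIrreducible S ht c0 (hopp c0)
  refine ⟨(H163.Steinberg.rep (G := G) S.iso).character, Characters.Core.isIrrCharacter_of_rep _ hirr,
    rat_character Δ S, fun Q => ?_⟩
  obtain ⟨c, hc⟩ := S.exists_fix Q Q.isPGroup'
  have hQ : (Q : Subgroup G) = S.U c :=
    (Q.is_maximal' (S.isP c) (S.max c Q Q.isPGroup' hc)).symm
  constructor
  · rw [H163.Steinberg.character_apply S c (hopp c) 1 (one_mem _), if_pos rfl, ← hQ]
  · intro x hx hx1
    have hx' : x ∈ S.U c := by rw [← hQ]; exact hx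
    rw [H163.Steinberg.character_apply S c (hopp c) x hx', if_neg hx1]

end St

/-- **The Steinberg character** of a finite group with `HasSplit` is rational-valued. -/
theorem exists_rat_of_hasSplit {K : Type*} [Group K] [Finite K] {p : ℕ} [Fact p.Prime]
    (h : FixBN.HasSplit p K) :
    ∃ χ : K → ℂ, IsIrrCharacter K χ ∧ (∀ g : K, ∃ q : ℚ, χ g = q) ∧
      ∀ Q : Sylow p K, χ 1 = Nat.card Q ∧ ∀ x : K, x ∈ Q → x ≠ 1 → χ x = 0 := by
  obtain ⟨P, U, -, h⟩ := h
  have hN : ((P.B ⊓ P.N).subgroupOf P.N).Normal := Tits.OfBN.normal_subgroupOf P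
  obtain ⟨M, cs, hcs⟩ := S0320.result P
  have S := FixBN.OfBN.sys (Equiv.refl P.S) cs hcs h
  have : Fintype (K ⧸ P.B) := Fintype.ofFinite _
  exact exists_rat_of_sys _ S fun x y => MulAction.exists_smul_eq K x y

end Cfsg.Agent.H707.GalTrace
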