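import Cfsg.Agent.H707.GalTrace
import Cfsg.Agent.H707.Rank
import Cfsg.Agent.H996.AllSplit
import Mathlib.GroupTheory.SpecificGroups.Alternating
import Mathlib.GroupTheory.GroupAction.MultipleTransitivity

/-!
# Nontrivial rational-valued irreducible characters: alternating groups, groups of Lie type
-/

set_option autoImplicit false

namespace Cfsg.Agent.H707.RowLie

open Cfsg Cfsg.Agent.H707.OddLift

/-- A finite group with a split (B,N)-pair of positive rank. -/
theorem of_hasSplit {p : ℕ} [hp : Fact p.Prime] {K : Type*} [Group K] [Finite K] (h : FixBN.HasSplit p K) :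
    HasRat K := by
  obtain ⟨χ, h1, h2, h3⟩ := GalTrace.exists_rat_of_hasSplit h
  refine ⟨χ, h1, ?_, h2⟩
  rintro rfl
  obtain ⟨P, U, ⟨s, hs⟩, hU⟩ := h
  obtain ⟨V, hV⟩ := hU.node s hs
  obtain ⟨u, hu, huV⟩ := hV.ne
  have hu1 : u ≠ 1 := fun h => huV (h ▸ one_mem V)
  obtain ⟨Q, hQ⟩ := hU.isP.exists_le_sylow
  have h4 := (h3 Q).2 u (hQ hu) hu1
  exact one_ne_zero h4

theorem lie {p : ℕ} (hp : p.Prime) {G : Type*} [Group G] [Finite G] [IsSimpleGroup G]
    (h : IsLieTypeChar p G) : HasRat G := by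
  have : Fact p.Prime := ⟨hp⟩
  exact of_hasSplit (H996.AllSplit.hasSplit_of_lie hp h)

theorem alternating {G : Type*} [Group G] [Finite G] (h : IsAlternating G) : HasRat G := by
  obtain ⟨n, hn, ⟨e⟩⟩ := h
  apply HasRat.of_equiv e
  have h1 : MulAction.IsMultiplyPretransitive (alternatingGroup (Fin n)) (Fin n) (Nat.card (Fin n) - 2) :=
    alternatingGroup.isMultiplyPretransitive (Fin n)
  have h2 : MulAction.IsMultiplyPretransitive (alternatingGroup (Fin n)) (Fin n) 2 :=
    MulAction.isMultiplyPretransitive_of_le (n := Nat.card (Fin n) - 2) (by rw [Nat.card_fin]; omega)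
      (Nat.sub_le _ _)
  have h3 : MulAction.IsPretransitive (alternatingGroup (Fin n)) (Fin n) :=
    MulAction.isPretransitive_of_is_two_pretransitive
  have : Nonempty (Fin n) := ⟨⟨0, by omega⟩⟩
  exact Rank.hasRat_of_two_pretransitive (Fin n) (by rw [Nat.card_fin]; omega) h2

end Cfsg.Agent.H707.RowLie
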