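import Cfsg.Agent.H707.Orbits
import Cfsg.Agent.Characters.DegreeBounds

/-!
# Rational-valued generalized characters of small norm

Let `G` have no nontrivial rational-valued irreducible character (`¬ HasRat G`) and let `ψ` be a rational-valued
generalized character with `[ψ, 1] = 0`, `[ψ, ψ] = n`.

* `norm_ne_one` : `n ≠ 1`;
* `exists_prime_of_norm` : if `n = 2, 3, 4, 6` then some prime `p ∣ n` divides `ψ 1`;
* `exists_degree_of_norm` : if `n = 2, 3` then `ψ 1 = ± n d` with `d ∣ |G|`.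
-/

set_option autoImplicit false

namespace Cfsg.Agent.H707.Norm

open Cfsg Cfsg.Agent.Characters.Core Cfsg.Agent.Characters Cfsg.Agent.H707.OddLift Cfsg.Agent.H707.Orbits
open scoped ComplexConjugate

attribute [local instance] irrAction

universe u

variable {G : Type u} [Group G]

/-- The degree of an irreducible character divides the order of the group. -/
theorem exists_degree [Finite G] {χ : G → ℂ} (hχ : IsIrrCharacter G χ) :
    ∃ d : ℕ, d ∣ Nat.card G ∧ χ 1 = d := by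
  obtain ⟨n, ρ, hρ, rfl⟩ := hχ
  refine ⟨n, ?_, ?_⟩
  · have := hρ
    have h := DegreeBounds.finrank_dvd_card ρ
    rwa [Module.finrank_fin_fun] at h
  · rw [Representation.char_one, Module.finrank_fin_fun]

variable [Fintype G] [Fintype (IrrCharacter G)] {m : IrrCharacter G → ℤ} {ψ : G → ℂ}

theorem coeff_eq (hψ : ψ = ∑ χ : IrrCharacter G, m χ • (χ : G → ℂ)) (χ : IrrCharacter G) :
    classInner ψ (χ : G → ℂ) = m χ := by
  rw [hψ, classInner_sum_zsmul_irr]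

theorem coeff_smul (hψ : ψ = ∑ χ : IrrCharacter G, m χ • (χ : G → ℂ)) (hrat : ∀ g : G, ∃ q : ℚ, ψ g = q)
    (σ : ℂ ≃+* ℂ) (χ : IrrCharacter G) : m (σ • χ) = m χ := by
  have h1 : classInner ψ ((σ • χ : IrrCharacter G) : G → ℂ) = σ (classInner ψ (χ : G → ℂ)) := by
    rw [← GaloisIrr.classInner_map σ (isIrr_isCharacter χ.2)]
    congr 1
    funext g
    obtain ⟨q, hq⟩ := hrat g
    rw [hq, map_ratCast]
  rw [coeff_eq hψ, coeff_eq hψ, map_intCast] at h1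
  exact_mod_cast h1

theorem sum_sq (hψ : ψ = ∑ χ : IrrCharacter G, m χ • (χ : G → ℂ)) {n : ℕ} (hn : classInner ψ ψ = n) :
    ∑ χ : IrrCharacter G, m χ ^ 2 = n := by
  have h1 : ψ = ∑ χ : IrrCharacter G, (m χ : ℂ) • (χ : G → ℂ) := by
    rw [hψ]
    simp only [Int.cast_smul_eq_zsmul]
  rw [h1, classInner_sum_smul_sum_smul] at hn
  have h2 : ((∑ χ : IrrCharacter G, m χ ^ 2 : ℤ) : ℂ) = ((n : ℤ) : ℂ) := by
    push_cast
    rw [← hn]
    refine Finset.sum_congr rfl fun χ _ => ?_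
    rw [map_intCast, pow_two]
  exact_mod_cast h2

/-- the support -/
abbrev Supp (m : IrrCharacter G → ℤ) : Type u := {χ : IrrCharacter G // m χ ≠ 0}

/-- the action on the support -/
@[reducible] noncomputable def suppAction (hm : ∀ (σ : ℂ ≃+* ℂ) (χ : IrrCharacter G), m (σ • χ) = m χ) :
    MulAction (ℂ ≃+* ℂ) (Supp m) where
  smul σ χ := ⟨σ • χ.1, by rw [hm]; exact χ.2⟩
  one_smul _ := rfl
  mul_smul _ _ _ := rfl

theorem ne_one_of_supp (hψ : ψ = ∑ χ : IrrCharacter G, m χ • (χ : G → ℂ)) (h1 : classInner ψ 1 = 0)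
    {χ : IrrCharacter G} (hχ : m χ ≠ 0) : (χ : G → ℂ) ≠ 1 := by
  intro h
  apply hχ
  have h2 := coeff_eq hψ χ
  rw [h, h1] at h2
  exact_mod_cast h2.symm

theorem sq_eq_one (hG : ¬ HasRat G) (hψ : ψ = ∑ χ : IrrCharacter G, m χ • (χ : G → ℂ))
    (hrat : ∀ g : G, ∃ q : ℚ, ψ g = q) (h1 : classInner ψ 1 = 0) {n : ℕ} (hn : classInner ψ ψ = n)
    (hn7 : n ≤ 7) {χ : IrrCharacter G} (hχ : m χ ≠ 0) : m χ ^ 2 = 1 := by
  classical
  obtain ⟨σ, hσ⟩ := exists_smul_ne hG χ (ne_one_of_supp hψ h1 hχ)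
  have h2 := sum_sq hψ hn
  have h3 : ∑ ξ ∈ ({χ, σ • χ} : Finset (IrrCharacter G)), m ξ ^ 2 ≤ ∑ ξ, m ξ ^ 2 :=
    Finset.sum_le_sum_of_subset_of_nonneg (Finset.subset_univ _) fun _ _ _ => sq_nonneg _
  rw [Finset.sum_pair (Ne.symm hσ), coeff_smul hψ hrat, h2] at h3
  have h4 : (n : ℤ) ≤ 7 := by exact_mod_cast hn7
  have h5 : m χ ^ 2 ≤ 3 := by omega
  have h6 : -1 ≤ m χ ∧ m χ ≤ 1 := by constructor <;> nlinarith
  have h7 : m χ = 1 ∨ m χ = -1 := by omega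
  rcases h7 with h7 | h7 <;> rw [h7] <;> norm_num

theorem card_supp (hG : ¬ HasRat G) (hψ : ψ = ∑ χ : IrrCharacter G, m χ • (χ : G → ℂ))
    (hrat : ∀ g : G, ∃ q : ℚ, ψ g = q) (h1 : classInner ψ 1 = 0) {n : ℕ} (hn : classInner ψ ψ = n)
    (hn7 : n ≤ 7) : Nat.card (Supp m) = n := by
  classical
  have h2 := sum_sq hψ hn
  have h3 : ∑ χ : IrrCharacter G, m χ ^ 2 = ∑ χ : IrrCharacter G, if m χ ≠ 0 then (1 : ℤ) else 0 := by
    refine Finset.sum_congr rfl fun χ _ => ?_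
    split_ifs with h
    · exact sq_eq_one hG hψ hrat h1 hn hn7 h
    · rw [not_not.1 h]; norm_num
  rw [h3, Finset.sum_boole] at h2
  rw [Nat.card_eq_fintype_card, Fintype.card_subtype]
  exact_mod_cast h2

omit [Fintype G] in
theorem apply_one_eq (hψ : ψ = ∑ χ : IrrCharacter G, m χ • (χ : G → ℂ)) [Fintype (Supp m)] :
    ψ 1 = ∑ χ : Supp m, (m χ.1 : ℂ) * (χ.1 : G → ℂ) 1 := by
  classical
  rw [hψ, Finset.sum_apply]
  have h2 : ∀ χ : IrrCharacter G, (m χ • (χ : G → ℂ)) 1 = if m χ ≠ 0 then (m χ : ℂ) * (χ : G → ℂ) 1 else 0 := by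
    intro χ
    split_ifs with h
    · rw [Pi.smul_apply, zsmul_eq_mul]
    · rw [not_not.1 h, zero_smul, Pi.zero_apply]
  simp_rw [h2]
  rw [← Finset.sum_filter]
  exact (Finset.sum_subtype_eq_sum_filter (s := Finset.univ)
    (f := fun χ : IrrCharacter G => (m χ : ℂ) * (χ : G → ℂ) 1) (p := fun χ => m χ ≠ 0)).symm.trans
    (Finset.sum_congr (by ext x; simp) fun _ _ => rfl)

theorem exists_prime_of_norm {G : Type u} [Group G] [Fintype G] (hG : ¬ HasRat G) {ψ : G → ℂ}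
    (hψ : IsGeneralizedCharacter G ψ) (hrat : ∀ g : G, ∃ q : ℚ, ψ g = q) (h1 : classInner ψ 1 = 0) {n : ℕ}
    (hn : classInner ψ ψ = n) (hn' : n = 2 ∨ n = 3 ∨ n = 4 ∨ n = 6) :
    ∃ p : ℕ, p.Prime ∧ p ∣ n ∧ ∃ k : ℤ, ψ 1 = (p : ℂ) * k := by
  classical
  have := finite_irr (G := G)
  have := Fintype.ofFinite (IrrCharacter G)
  obtain ⟨m, hm⟩ := isGeneralizedCharacter_iff.1 hψ
  have hn7 : n ≤ 7 := by omega
  have hcard := card_supp hG hm hrat h1 hn hn7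
  let _ := suppAction (fun σ χ => coeff_smul hm hrat σ χ)
  obtain ⟨p, hp, hd⟩ := exists_prime_dvd_orbits (Γ := ℂ ≃+* ℂ) (S := Supp m) (by rw [hcard]; exact hn')
    (fun χ => by
      obtain ⟨σ, hσ⟩ := exists_smul_ne hG χ.1 (ne_one_of_supp hm h1 χ.2)
      exact ⟨σ, fun h => hσ (congrArg Subtype.val h)⟩)
  refine ⟨p, hp, ?_, ?_⟩
  · obtain ⟨z, hz, hz'⟩ := exists_sum_eq hd (⊤ : Subring ℤ) (fun _ => 1) (fun _ _ => rfl) (fun _ => trivial)
    rw [Finset.sum_const, Finset.card_univ, ← Nat.card_eq_fintype_card, hcard, nsmul_eq_mul, mul_one] at hz'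
    exact Int.natCast_dvd_natCast.1 ⟨z, by exact_mod_cast hz'⟩
  · obtain ⟨z, hz, hz'⟩ := exists_sum_eq hd (Int.castRingHom ℂ).range
      (fun χ : Supp m => (m χ.1 : ℂ) * (χ.1 : G → ℂ) 1)
      (fun σ χ => by
        change (m (σ • χ.1) : ℂ) * ((σ • χ.1 : IrrCharacter G) : G → ℂ) 1 = _
        rw [coeff_smul hm hrat, smul_apply_one])
      (fun χ => by
        obtain ⟨d, -, hd⟩ := isIrr_apply_one χ.1.2
        exact ⟨m χ.1 * d, by simp [hd]⟩)
    obtain ⟨k, rfl⟩ := hz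
    exact ⟨k, by rw [apply_one_eq hm, hz']; rfl⟩

theorem norm_ne_one {G : Type u} [Group G] [Fintype G] (hG : ¬ HasRat G) {ψ : G → ℂ}
    (hψ : IsGeneralizedCharacter G ψ) (hrat : ∀ g : G, ∃ q : ℚ, ψ g = q) (h1 : classInner ψ 1 = 0) :
    classInner ψ ψ ≠ 1 := by
  classical
  intro hn
  have := finite_irr (G := G)
  have := Fintype.ofFinite (IrrCharacter G)
  obtain ⟨m, hm⟩ := isGeneralizedCharacter_iff.1 hψ
  have hn' : classInner ψ ψ = (1 : ℕ) := by rw [hn]; norm_num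
  have hcard := card_supp hG hm hrat h1 hn' (by norm_num)
  obtain ⟨⟨χ, hχ⟩, huniq⟩ := Nat.card_eq_one_iff_exists.1 hcard
  obtain ⟨σ, hσ⟩ := exists_smul_ne hG χ (ne_one_of_supp hm h1 hχ)
  exact hσ (congrArg Subtype.val (huniq ⟨σ • χ, by rw [coeff_smul hm hrat]; exact hχ⟩))

/-- If the norm is `2` or `3` then the constituents are conjugate: `ψ 1 = ± n d` with `d` dividing the order. -/
theorem exists_degree_of_norm {G : Type u} [Group G] [Fintype G] (hG : ¬ HasRat G) {ψ : G → ℂ}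
    (hψ : IsGeneralizedCharacter G ψ) (hrat : ∀ g : G, ∃ q : ℚ, ψ g = q) (h1 : classInner ψ 1 = 0) {n : ℕ}
    (hn : classInner ψ ψ = n) (hn' : n = 2 ∨ n = 3) :
    ∃ d : ℕ, d ∣ Nat.card G ∧ (ψ 1 = (n : ℂ) * d ∨ ψ 1 = -((n : ℂ) * d)) := by
  classical
  have := finite_irr (G := G)
  have := Fintype.ofFinite (IrrCharacter G)
  obtain ⟨m, hm⟩ := isGeneralizedCharacter_iff.1 hψ
  have hn7 : n ≤ 7 := by omega
  have hcard := card_supp hG hm hrat h1 hn hn7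
  let _ := suppAction (fun σ χ => coeff_smul hm hrat σ χ)
  obtain ⟨p, hp, hd⟩ := exists_prime_dvd_orbits (Γ := ℂ ≃+* ℂ) (S := Supp m) (by rw [hcard]; omega)
    (fun χ => by
      obtain ⟨σ, hσ⟩ := exists_smul_ne hG χ.1 (ne_one_of_supp hm h1 χ.2)
      exact ⟨σ, fun h => hσ (congrArg Subtype.val h)⟩)
  have hne : Nonempty (Supp m) := by
    apply (Nat.card_pos_iff.1 _).1
    rw [hcard]; omega
  obtain ⟨χ0⟩ := hne
  -- a single orbit
  have hpn : p = n := by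
    obtain ⟨z, hz, hz'⟩ := exists_sum_eq hd (⊤ : Subring ℤ) (fun _ => 1) (fun _ _ => rfl) (fun _ => trivial)
    rw [Finset.sum_const, Finset.card_univ, ← Nat.card_eq_fintype_card, hcard, nsmul_eq_mul, mul_one] at hz'
    have h2 : p ∣ n := Int.natCast_dvd_natCast.1 ⟨z, by exact_mod_cast hz'⟩
    have h3 : n.Prime := by
      rcases hn' with rfl | rfl
      · exact Nat.prime_two
      · exact Nat.prime_three
    exact (Nat.prime_dvd_prime_iff_eq hp h3).1 h2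
  have horb : ∀ χ : Supp m, χ ∈ MulAction.orbit (ℂ ≃+* ℂ) χ0 := by
    have h2 : n ≤ Nat.card (MulAction.orbit (ℂ ≃+* ℂ) χ0) := by
      rw [← hpn]
      have : Nonempty (MulAction.orbit (ℂ ≃+* ℂ) χ0) := ⟨⟨χ0, MulAction.mem_orbit_self χ0⟩⟩
      exact Nat.le_of_dvd Nat.card_pos (hd χ0)
    have h3 : MulAction.orbit (ℂ ≃+* ℂ) χ0 = Set.univ := by
      apply Set.eq_of_subset_of_ncard_le (Set.subset_univ _) _ (Set.toFinite _)
      rw [Set.ncard_univ, hcard]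
      exact h2
    intro χ
    rw [h3]
    trivial
  obtain ⟨d, hdG, hd1⟩ := exists_degree χ0.1.2
  have hval : ∀ χ : Supp m, (m χ.1 : ℂ) * (χ.1 : G → ℂ) 1 = m χ0.1 * d := by
    intro χ
    obtain ⟨σ, hσ⟩ := horb χ
    rw [← hσ, ← hd1]
    change (m (σ • χ0.1) : ℂ) * ((σ • χ0.1 : IrrCharacter G) : G → ℂ) 1 = _
    rw [coeff_smul hm hrat, smul_apply_one]
  refine ⟨d, hdG, ?_⟩
  rw [apply_one_eq hm, Finset.sum_congr rfl fun χ _ => hval χ, Finset.sum_const, Finset.card_univ,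
    ← Nat.card_eq_fintype_card, hcard, nsmul_eq_mul]
  have h4 := sq_eq_one hG hm hrat h1 hn hn7 χ0.2
  rcases sq_eq_one_iff.1 h4 with h5 | h5
  · left; rw [h5]; push_cast; ring
  · right; rw [h5]; push_cast; ring

end Cfsg.Agent.H707.Norm
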