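import Cfsg.Agent.Characters.GaloisIrr
import Cfsg.Agent.H707.OddLift
import Mathlib.GroupTheory.GroupAction.Basic

/-!
# Galois orbits of irreducible characters

* the action of the automorphisms of `ℂ` on `IrrCharacter G`;
* `exists_prime_dvd_orbits` : if no element of a finite set of size `2, 3, 4, 6` is fixed then there is a prime
  dividing the sizes of all orbits;
* `exists_sum_eq` : an invariant function then has sum divisible by the prime.
-/

set_option autoImplicit false

namespace Cfsg.Agent.H707.Orbits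

open Cfsg Cfsg.Agent.Characters.Core Cfsg.Agent.Characters Cfsg.Agent.H707.OddLift

section Abstract

/-- Parts of a partition of `2, 3, 4, 6` without parts `1` have a common prime factor. -/
theorem exists_prime_dvd_parts {ι : Type*} [Fintype ι] (c : ι → ℕ) (h2 : ∀ i, 2 ≤ c i) (m : ℕ)
    (hm : m = 2 ∨ m = 3 ∨ m = 4 ∨ m = 6) (hc : ∑ i, c i = m) : ∃ p : ℕ, p.Prime ∧ ∀ i, p ∣ c i := by
  classical
  -- the complement of a part is zero or at least two
  have h3 : ∀ i, c i = m ∨ c i + 2 ≤ m := by
    intro i
    rw [← Finset.add_sum_erase Finset.univ c (Finset.mem_univ i)] at hc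
    by_cases h : (Finset.univ.erase i) = ∅
    · left
      rw [h, Finset.sum_empty, add_zero] at hc
      exact hc
    · right
      obtain ⟨j, hj⟩ := Finset.nonempty_iff_ne_empty.2 h
      have h4 : c j ≤ ∑ k ∈ Finset.univ.erase i, c k := Finset.single_le_sum (fun k _ => Nat.zero_le _) hj
      have := h2 j
      omega
  by_cases hall : ∀ i, Even (c i)
  · exact ⟨2, Nat.prime_two, fun i => (hall i).two_dvd⟩
  · push Not at hall
    obtain ⟨i, hi⟩ := hall
    have hi' : c i = 3 := by
      have h4 := h2 i
      have h5 := h3 i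
      rw [Nat.not_even_iff_odd] at hi
      obtain ⟨k, hk⟩ := hi
      omega
    refine ⟨3, Nat.prime_three, fun j => ?_⟩
    by_cases hij : j = i
    · rw [hij, hi']
    · have h6 : c j ∣ 3 ∨ c j = 2 ∨ c j = 3 ∨ 4 ≤ c j := by
        have := h2 j
        omega
      have h7 : c i + c j ≤ m := by
        rw [← hc]
        have h8 : ∑ k ∈ ({i, j} : Finset ι), c k ≤ ∑ k, c k :=
          Finset.sum_le_sum_of_subset (Finset.subset_univ _)
        rwa [Finset.sum_pair (Ne.symm hij)] at h8
      have h9 : c j = 3 ∨ c j = 2 := by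
        have := h2 j
        have := h3 i
        omega
      rcases h9 with h9 | h9
      · rw [h9]
      · exfalso
        -- one part of size one remains
        have hm6 : m = 6 := by
          have := h3 i
          omega
        have h10 : ∑ k ∈ (Finset.univ.erase i).erase j, c k = 1 := by
          rw [← Finset.add_sum_erase Finset.univ c (Finset.mem_univ i),
            ← Finset.add_sum_erase (Finset.univ.erase i) c (Finset.mem_erase.2 ⟨hij, Finset.mem_univ j⟩)] at hc
          omega
        obtain ⟨k, hk, hk0⟩ := Finset.exists_ne_zero_of_sum_ne_zero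
          (show ∑ k ∈ (Finset.univ.erase i).erase j, c k ≠ 0 by rw [h10]; norm_num)
        have h11 : c k ≤ ∑ k ∈ (Finset.univ.erase i).erase j, c k :=
          Finset.single_le_sum (fun k _ => Nat.zero_le _) hk
        have := h2 k
        omega

variable {Γ S : Type*} [Group Γ] [MulAction Γ S]

/-- If no element of a finite `Γ`-set of size `2, 3, 4, 6` is fixed then there is a prime
dividing the sizes of all orbits. -/
theorem exists_prime_dvd_orbits [Finite S]
    (hm : Nat.card S = 2 ∨ Nat.card S = 3 ∨ Nat.card S = 4 ∨ Nat.card S = 6)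
    (hfix : ∀ s : S, ∃ γ : Γ, γ • s ≠ s) :
    ∃ p : ℕ, p.Prime ∧ ∀ s : S, p ∣ Nat.card (MulAction.orbit Γ s) := by
  classical
  have := Fintype.ofFinite S
  let Q := MulAction.orbitRel.Quotient Γ S
  have : Finite Q := Quotient.finite _
  have := Fintype.ofFinite Q
  have h1 : ∑ ω : Q, Nat.card ω.orbit = Nat.card S := by
    rw [Nat.card_congr (MulAction.selfEquivSigmaOrbits' Γ S), Nat.card_sigma]
  obtain ⟨p, hp, hd⟩ := exists_prime_dvd_parts (fun ω : Q => Nat.card ω.orbit) (fun ω => by
    induction ω using Quotient.inductionOn with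
    | _ s =>
      obtain ⟨γ, hγ⟩ := hfix s
      have h2 : Nontrivial (MulAction.orbitRel.Quotient.orbit (Quotient.mk (MulAction.orbitRel Γ S) s)) :=
        ⟨⟨γ • s, MulAction.mem_orbit s γ⟩, ⟨s, MulAction.mem_orbit_self s⟩, fun h => hγ (congrArg Subtype.val h)⟩
      exact Finite.one_lt_card_iff_nontrivial.2 h2) (Nat.card S) hm h1
  exact ⟨p, hp, fun s => hd (Quotient.mk (MulAction.orbitRel Γ S) s)⟩

/-- The sum of an invariant function, grouped by orbits of size divisible by `p`. -/
theorem exists_sum_eq [Fintype S] {p : ℕ} (hd : ∀ s : S, p ∣ Nat.card (MulAction.orbit Γ s)) {R : Type*}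
    [CommRing R] (A : Subring R) (f : S → R) (hf : ∀ (γ : Γ) (s : S), f (γ • s) = f s) (hA : ∀ s, f s ∈ A) :
    ∃ z ∈ A, ∑ s, f s = (p : R) * z := by
  classical
  let Q := MulAction.orbitRel.Quotient Γ S
  have : Finite Q := Quotient.finite _
  have := Fintype.ofFinite Q
  have h1 : ∑ s, f s = ∑ ω : Q, ∑ s ∈ Finset.univ.filter (fun s => (Quotient.mk (MulAction.orbitRel Γ S) s) = ω), f s :=
    (Finset.sum_fiberwise_of_maps_to (fun s _ => Finset.mem_univ _) _).symm
  have h2 : ∀ ω : Q, ∃ z ∈ A, ∑ s ∈ Finset.univ.filter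
      (fun s => (Quotient.mk (MulAction.orbitRel Γ S) s) = ω), f s = (p : R) * z := by
    intro ω
    induction ω using Quotient.inductionOn with
    | _ t =>
      obtain ⟨k, hk⟩ := hd t
      refine ⟨k * f t, A.mul_mem (natCast_mem A k) (hA t), ?_⟩
      have h3 : ∀ s ∈ Finset.univ.filter (fun s => (Quotient.mk (MulAction.orbitRel Γ S) s) =
          (Quotient.mk (MulAction.orbitRel Γ S) t)), f s = f t := by
        intro s hs
        rw [Finset.mem_filter] at hs
        obtain ⟨γ, hγ⟩ : s ∈ MulAction.orbit Γ t := Quotient.exact hs.2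
        rw [← hγ]
        exact hf γ t
      rw [Finset.sum_congr rfl h3, Finset.sum_const, nsmul_eq_mul]
      have h4 : (Finset.univ.filter (fun s => (Quotient.mk (MulAction.orbitRel Γ S) s) =
          (Quotient.mk (MulAction.orbitRel Γ S) t))).card = Nat.card (MulAction.orbit Γ t) := by
        rw [← Fintype.card_subtype, ← Nat.card_eq_fintype_card]
        refine Nat.card_congr (Equiv.subtypeEquivRight fun s => ?_)
        exact ⟨fun h => Quotient.exact h, fun h => Quotient.sound h⟩
      rw [h4, hk]
      push_cast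
      ring
  choose z hz hz' using h2
  refine ⟨∑ ω, z ω, A.sum_mem fun ω _ => hz ω, ?_⟩
  rw [h1, Finset.mul_sum]
  exact Finset.sum_congr rfl fun ω _ => hz' ω

end Abstract

section Irr

universe u

variable {G : Type u} [Group G] [Finite G]

/-- The action of the automorphisms of `ℂ` on the irreducible characters. -/
@[reducible] noncomputable def irrAction : MulAction (ℂ ≃+* ℂ) (IrrCharacter G) where
  smul σ χ := ⟨fun g => σ ((χ : G → ℂ) g), GaloisIrr.isIrr_map σ χ.2⟩
  one_smul _ := rfl
  mul_smul _ _ _ := rfl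

attribute [local instance] irrAction

theorem smul_apply (σ : ℂ ≃+* ℂ) (χ : IrrCharacter G) (g : G) :
    ((σ • χ : IrrCharacter G) : G → ℂ) g = σ ((χ : G → ℂ) g) := rfl

theorem smul_apply_one (σ : ℂ ≃+* ℂ) (χ : IrrCharacter G) :
    ((σ • χ : IrrCharacter G) : G → ℂ) 1 = (χ : G → ℂ) 1 := by
  obtain ⟨n, -, hn⟩ := isIrr_apply_one χ.2
  rw [smul_apply, hn, map_natCast]

/-- A nontrivial irreducible character is moved by some automorphism, if `G` has no nontrivial rational-valued
irreducible character. -/
theorem exists_smul_ne (h : ¬ HasRat G) (χ : IrrCharacter G) (h1 : (χ : G → ℂ) ≠ 1) :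
    ∃ σ : ℂ ≃+* ℂ, σ • χ ≠ χ := by
  by_contra hcon
  push Not at hcon
  apply h
  refine ⟨χ, χ.2, h1, fun g => ?_⟩
  apply GaloisBasic.exists_rat_of_forall_ringEquiv
  · exact (GaloisBasic.isIntegral_apply (isIrr_isCharacter χ.2) g).tower_top
  · intro σ
    exact congrFun (congrArg Subtype.val (hcon σ)) g

end Irr

end Cfsg.Agent.H707.Orbits
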