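import Cfsg.Agent.H707.Rank
import Cfsg.Agent.H707.Block
import Cfsg.Agent.NotCT.Orders
import Cfsg.Agent.SporadicStructure.Co2RankThree
import Cfsg.Agent.HN.A12Group
import Cfsg.Agent.Ly.Setup
import Cfsg.Agent.S1701

/-!
# Nontrivial rational-valued irreducible characters of Co2, HN, Ly
-/

set_option autoImplicit false

namespace Cfsg.Agent.H707.RowsMore

open Cfsg Cfsg.Agent.H707.OddLift Cfsg.Agent.H707.Rank Cfsg.Agent.H707.Block Cfsg.Agent.NotCT MulAction

theorem co2 {K : Type*} [Group K] [Finite K] (h : Spor.IsoCo2 K) : HasRat K := by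
  obtain ⟨e⟩ := h
  obtain ⟨H, -, hi, c₁, c₂, h1, h2⟩ := SporadicStructure.Co2RankThree.rank_three e
  exact hasRat_rank_three H h1 h2 (by norm_num) (by norm_num) (by norm_num) (by rw [hi]) (by rw [hi]; decide)

theorem card_sylow {G : Type*} [Group G] [Finite G] {p : ℕ} [hp : Fact p.Prime] (P : Sylow p G)
    (h1 : p ∣ Nat.card G) (h2 : ¬ p ^ 2 ∣ Nat.card G) : Nat.card P = p := by
  rw [P.card_eq_multiplicity]
  have h0 : Nat.card G ≠ 0 := Nat.card_pos.ne'
  have h3 : 1 ≤ (Nat.card G).factorization p := (hp.out.dvd_iff_one_le_factorization h0).1 h1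
  have h4 : ¬ 2 ≤ (Nat.card G).factorization p := fun h => h2 ((hp.out.pow_dvd_iff_le_factorization h0).2 h)
  have h5 : (Nat.card G).factorization p = 1 := by omega
  rw [h5, pow_one]

def c7 : Equiv.Perm (Fin 12) := List.formPerm [0, 1, 2, 3, 4, 5, 6]

def i7 : Equiv.Perm (Fin 12) := List.formPerm [1, 6] * List.formPerm [2, 5] * List.formPerm [3, 4] *
  List.formPerm [7, 8]

theorem c7_mem : c7 ∈ alternatingGroup (Fin 12) := by
  rw [Equiv.Perm.mem_alternatingGroup]
  decide +kernel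

theorem i7_mem : i7 ∈ alternatingGroup (Fin 12) := by
  rw [Equiv.Perm.mem_alternatingGroup]
  decide +kernel

theorem conj7 : i7 * c7 * i7⁻¹ = c7⁻¹ := by decide +kernel

theorem c7_pow : c7 ^ 7 = 1 := by decide +kernel

theorem c7_ne : c7 ≠ 1 := by decide +kernel

theorem real_of_hom {S G : Type*} [Group S] [Group G] (f : S →* G) (hf : Function.Injective f) {a b : S} {n : ℕ}
    (ha : orderOf a = n) (hab : b * a * b⁻¹ = a⁻¹) : orderOf (f a) = n ∧ IsConj (f a) (f a)⁻¹ := by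
  refine ⟨by rw [orderOf_injective f hf, ha], ?_⟩
  rw [isConj_iff]
  refine ⟨f b, ?_⟩
  rw [← map_mul, ← map_inv, ← map_mul, hab, map_inv]

theorem exists_real_alt : ∃ a b : alternatingGroup (Fin 12), orderOf a = 7 ∧ b * a * b⁻¹ = a⁻¹ := by
  have hp : Fact (Nat.Prime 7) := ⟨by norm_num⟩
  refine ⟨⟨c7, c7_mem⟩, ⟨i7, i7_mem⟩, ?_, Subtype.ext conj7⟩
  apply orderOf_eq_prime
  · exact Subtype.ext c7_pow
  · intro h
    exact c7_ne (congrArg Subtype.val h)

theorem exists_real_seven {G : Type*} [Group G] {K : Subgroup G} (e : K ≃* alternatingGroup (Fin 12)) :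
    ∃ y : G, orderOf y = 7 ∧ IsConj y y⁻¹ := by
  obtain ⟨a, b, ha, hab⟩ := exists_real_alt
  exact ⟨_, real_of_hom (K.subtype.comp e.symm.toMonoidHom) (K.subtype_injective.comp e.symm.injective) ha hab⟩

theorem of_alt12 {G : Type*} [Group G] [Finite G] {A : Subgroup G} (f : A ≃* alternatingGroup (Fin 12))
    (h1 : 7 ∣ Nat.card G) (h2 : ¬ 7 ^ 2 ∣ Nat.card G) : HasRat G := by
  obtain ⟨y, hy, hr⟩ := exists_real_seven f
  have hp : Fact (Nat.Prime 7) := ⟨by norm_num⟩
  obtain ⟨P⟩ : Nonempty (Sylow 7 G) := inferInstance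
  exact hasRat_of_seven P (card_sylow P h1 h2) hy hr

theorem hn {K : Type*} [Group K] [Finite K] (h : Spor.IsoHN K) : HasRat K := by
  have hc := Orders.hn h
  obtain ⟨e⟩ := h
  have hs : IsSimpleGroup Spor.HN := S1701.result.1
  obtain ⟨A, ⟨f⟩⟩ := HN.A12Group.exists_alternating
  have f' : A.comap (e : K →* Spor.HN) ≃* alternatingGroup (Fin 12) :=
    ((e.symm.subgroupMap A).trans (MulEquiv.subgroupCongr (by
      ext x
      rw [Subgroup.mem_map, Subgroup.mem_comap]
      constructor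
      · rintro ⟨y, hy, rfl⟩
        change e (e.symm y) ∈ A
        rwa [MulEquiv.apply_symm_apply]
      · intro hx
        exact ⟨e x, hx, e.symm_apply_apply x⟩))).symm.trans f
  exact of_alt12 f' (by rw [hc]; norm_num) (by rw [hc]; norm_num)

theorem ly {K : Type*} [Group K] [Finite K] (h : Spor.IsoLy K) : HasRat K := by
  obtain ⟨e⟩ := h
  have : Finite Spor.Ly := Finite.of_equiv _ e.toEquiv
  apply HasRat.of_equiv e
  refine hasRat_of_cover (G := Spor.Ly) (Spor.Ly ⧸ Ly.Setup.psi.range) ((1 : Spor.Ly) : Spor.Ly ⧸ Ly.Setup.psi.range)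
    Ly.Setup.psi.range (mem_iff_smul _) (r := 5) (by norm_num) (fun i => (Ly.Setup.w i : Spor.Ly ⧸ Ly.Setup.psi.range))
    ?_ ?_ ?_
  · intro y
    induction y using QuotientGroup.induction_on with | _ g =>
    obtain ⟨i, h1, hh1, h2, hh2, hg⟩ := Ly.Setup.cover g
    refine ⟨i, ⟨h1, hh1⟩, ?_⟩
    change ((h1 * Ly.Setup.w i : Spor.Ly) : Spor.Ly ⧸ Ly.Setup.psi.range) = (g : Spor.Ly ⧸ Ly.Setup.psi.range)
    rw [QuotientGroup.eq, hg]
    have h3 : (h1 * Ly.Setup.w i)⁻¹ * (h1 * Ly.Setup.w i * h2) = h2 := by group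
    rw [h3]
    exact hh2
  · change 2 ≤ Ly.Setup.psi.range.index
    rw [Ly.Setup.index_range]; norm_num
  · intro j h1 h2
    change (Ly.Setup.psi.range.index - 1).Coprime j
    rw [Ly.Setup.index_range]
    interval_cases j <;> norm_num

end Cfsg.Agent.H707.RowsMore
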