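import Cfsg.Agent.H707.Rank
import Cfsg.Agent.S1624
import Cfsg.Agent.S1680
import Cfsg.Agent.S1683
import Cfsg.Agent.S1687
import Cfsg.Agent.S1689
import Cfsg.Agent.SporadicRecognition.HSAssemble
import Cfsg.Agent.SporadicRecognition.McLAssemble
import Cfsg.Agent.NotCT.Orders

/-!
# Nontrivial rational-valued irreducible characters of J2, HS, McL, Suz, He, Fi22, Fi23 (actions of small rank)
-/

set_option autoImplicit false

namespace Cfsg.Agent.H707.RowsRank

open Cfsg Cfsg.Agent.H707.OddLift Cfsg.Agent.H707.Rank Cfsg.Agent.NotCT MulAction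

variable {K : Type*} [Group K] [Finite K]

theorem j2 (h : Spor.IsoJ2 K) : HasRat K := by
  obtain ⟨e⟩ := h
  have : Finite Spor.J2 := Finite.of_equiv _ e.toEquiv
  obtain ⟨H, hi, -, c₁, c₂, h1, h2⟩ := S1624.result
  exact HasRat.of_equiv e (hasRat_rank_three H h1 h2 (by norm_num) (by norm_num) (by norm_num)
    (by rw [hi]) (by rw [hi]; decide))

theorem suz (h : Spor.IsoSuz K) : HasRat K := by
  obtain ⟨e⟩ := h
  have : Finite Spor.Suz := Finite.of_equiv _ e.toEquiv
  obtain ⟨hi, c₁, c₂, h1, h2⟩ := S1680.result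
  exact HasRat.of_equiv e (hasRat_rank_three _ h1 h2 (by norm_num) (by norm_num) (by norm_num)
    (by rw [hi]) (by rw [hi]; decide))

theorem fi22 (h : Spor.IsoFi22 K) : HasRat K := by
  obtain ⟨e⟩ := h
  have : Finite Spor.Fi22 := Finite.of_equiv _ e.toEquiv
  obtain ⟨hi, c₁, c₂, h1, h2⟩ := S1687.result
  exact HasRat.of_equiv e (hasRat_rank_three _ h1 h2 (by norm_num) (by norm_num) (by norm_num)
    (by rw [hi]) (by rw [hi]; decide))

theorem fi23 (h : Spor.IsoFi23 K) : HasRat K := by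
  have hc := Orders.fi23 h
  obtain ⟨e⟩ := h
  have : Finite Spor.Fi23 := Finite.of_equiv _ e.toEquiv
  obtain ⟨hi, c₁, c₂, h1, h2⟩ := S1689.result
  refine HasRat.of_equiv e (hasRat_rank_three_dvd _ h1 h2 (by norm_num) (by norm_num) (by norm_num)
    (by rw [hi]) ?_)
  intro d hd
  rw [hi] at hd
  have hd' : d = 15835 := by omega
  rw [hd', ← Nat.card_congr e.toEquiv, hc]
  norm_num

theorem he (h : Spor.IsoHe K) : HasRat K := by
  obtain ⟨e⟩ := h
  have : Finite Spor.He := Finite.of_equiv _ e.toEquiv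
  obtain ⟨hi, q₁, q₂, q₃, q₄, hne, h1, h2, h3, h4⟩ := S1683.result
  exact HasRat.of_equiv e (hasRat_rank_five _ hne h1 h2 h3 h4 (by norm_num) (by norm_num) (by norm_num)
    (by norm_num) (by norm_num) (by rw [hi]) (by rw [hi]; decide))

theorem hs (h : Spor.IsoHS K) : HasRat K := by
  obtain ⟨e⟩ := h
  obtain ⟨H, Y, _, _, _, _, a, b, c, hr, hc, -, ⟨f⟩⟩ := SporadicRecognition.HSAssemble.hs_rank
  have : Finite H := Finite.of_equiv _ (e.trans f.symm).toEquiv
  have := hr.trans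
  have : Nonempty Y := ⟨a⟩
  apply HasRat.of_equiv (e.trans f.symm)
  apply hasRat_of_rank Y (k := 2) (by tauto)
    (card_orbits_three' Y hr.cb hr.cc hr.hk hr.hl hr.ne hr.cardX)
  rw [hr.cardX]
  norm_num

theorem mcl (h : Spor.IsoMcL K) : HasRat K := by
  obtain ⟨e⟩ := h
  obtain ⟨H, Y, _, _, _, _, a, b, c, hr, hc, -, ⟨f⟩⟩ := SporadicRecognition.McLAssemble.mcl_rank
  have : Finite H := Finite.of_equiv _ (e.trans f.symm).toEquiv
  have := hr.trans
  have : Nonempty Y := ⟨a⟩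
  apply HasRat.of_equiv (e.trans f.symm)
  apply hasRat_of_rank_dvd Y (k := 2) (by tauto)
    (card_orbits_three' Y hr.cb hr.cc hr.hk hr.hl hr.ne hr.cardX)
  intro d hd
  rw [hr.cardX] at hd
  have hd' : d = 137 := by omega
  rw [hd', hc]
  norm_num

end Cfsg.Agent.H707.RowsRank
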